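import Mathlib

universe u

namespace Groth.Agent.H5QFMin

open TensorProduct Polynomial

variable {R S : Type u} [CommRing R] [CommRing S] [Algebra R S]

theorem fiber_finite [Algebra.FiniteType R S] (p : Ideal R) [p.IsPrime]
    (hfin : (p.primesOver S).Finite) : Module.Finite p.ResidueField (p.Fiber S) := by
  rw [Module.finite_iff_isArtinianRing, isArtinianRing_iff_isNoetherianRing_krullDimLE_zero]
  have : IsJacobsonRing (p.Fiber S) := isJacobsonRing_of_finiteType (A := p.ResidueField)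
  have : Finite (PrimeSpectrum (p.Fiber S)) := by
    haveI : Finite (p.primesOver S) := hfin
    exact Finite.of_equiv _ (PrimeSpectrum.primesOverOrderIsoFiber R S p).toEquiv
  exact ⟨Algebra.FiniteType.isNoetherianRing p.ResidueField _,
    (PrimeSpectrum.discreteTopology_iff_finite_and_krullDimLE_zero.mp inferInstance).right⟩

theorem mem_of_includeRight_eq_zero (p : Ideal R) [p.IsPrime] (y : S)
    (hy : (1 : p.ResidueField) ⊗ₜ[R] y = 0) (q : Ideal S) (hq : q ∈ p.primesOver S) : y ∈ q := by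
  have h1 := PrimeSpectrum.coe_primesOverOrderIsoFiber_symm_apply (R := R) (S := S) (p := p)
    (PrimeSpectrum.primesOverOrderIsoFiber R S p ⟨q, hq⟩)
  rw [OrderIso.symm_apply_apply] at h1
  have h2 : q = ((PrimeSpectrum.primesOverOrderIsoFiber R S p ⟨q, hq⟩).1.comap
      Algebra.TensorProduct.includeRight) := h1
  rw [h2, Ideal.mem_comap]
  have : (Algebra.TensorProduct.includeRight (R := R) (A := p.ResidueField) (B := S)) y = 0 := hy
  rw [this]
  exact Ideal.zero_mem _

theorem exists_smul_pow_eq_zero (p : Ideal R) [p.IsPrime] (hp : p ∈ minimalPrimes R) (y : S)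
    (hy : (1 : p.ResidueField) ⊗ₜ[R] y = 0) :
    ∃ u : R, u ∉ p ∧ ∃ N : ℕ, u • y ^ N = 0 := by
  by_contra hcon
  push Not at hcon
  let T : Submonoid S :=
    { carrier := {a | ∃ u : R, u ∉ p ∧ ∃ N : ℕ, a = u • y ^ N}
      one_mem' := ⟨1, fun h => (Ideal.IsPrime.ne_top ‹_›) ((Ideal.eq_top_iff_one _).2 h), 0, by simp⟩
      mul_mem' := by
        rintro a b ⟨u, hu, N, rfl⟩ ⟨v, hv, M, rfl⟩
        refine ⟨u * v, fun h => ?_, N + M, ?_⟩
        · rcases Ideal.IsPrime.mem_or_mem ‹_› h with h | h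
          · exact hu h
          · exact hv h
        · rw [smul_mul_smul_comm, pow_add] }
  have hdisj : Disjoint ((⊥ : Ideal S) : Set S) (T : Set S) := by
    rw [Set.disjoint_left]
    rintro a ha ⟨u, hu, N, rfl⟩
    exact hcon u hu N ha
  obtain ⟨q, hqprime, -, hqT⟩ := Ideal.exists_le_prime_disjoint (⊥ : Ideal S) T hdisj
  have hle : q.under R ≤ p := by
    intro r hr
    by_contra hrp
    have h1 : algebraMap R S r ∈ (T : Set S) := ⟨r, hrp, 0, by simp [Algebra.smul_def]⟩
    exact (Set.disjoint_left.1 hqT) hr h1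
  have heq : q.under R = p :=
    le_antisymm hle (hp.2 ⟨Ideal.IsPrime.under R q, bot_le⟩ hle)
  have hq : q ∈ p.primesOver S := ⟨hqprime, ⟨heq.symm⟩⟩
  have hyq := mem_of_includeRight_eq_zero p y hy q hq
  have hyT : y ∈ (T : Set S) := ⟨1, fun h => (Ideal.IsPrime.ne_top ‹_›) ((Ideal.eq_top_iff_one _).2 h), 1, by simp⟩
  exact (Set.disjoint_left.1 hqT) hyq hyT

end Groth.Agent.H5QFMin
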