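import Mathlib
import Groth.Agent.Lib.Helper5.QFMin.A

universe u

namespace Groth.Agent.H5QFMin

open TensorProduct Polynomial

variable {R S : Type u} [CommRing R] [CommRing S] [Algebra R S]

theorem exists_monic_tmul_eq_zero [Algebra.FiniteType R S] (p : Ideal R) [p.IsPrime]
    (hfin : (p.primesOver S).Finite) (x : S) :
    ∃ s : R, s ∉ p ∧ ∃ Q : R[X], Q.Monic ∧ (1 : p.ResidueField) ⊗ₜ[R] (aeval (s • x) Q) = 0 := by
  haveI := fiber_finite p hfin
  let z : p.Fiber S := (1 : p.ResidueField) ⊗ₜ[R] x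
  haveI : Module.Finite (Localization.AtPrime p) p.ResidueField :=
    Module.Finite.of_surjective (Algebra.linearMap (Localization.AtPrime p) p.ResidueField)
      IsLocalRing.residue_surjective
  haveI : Module.Finite (Localization.AtPrime p) (p.Fiber S) :=
    Module.Finite.trans p.ResidueField _
  have hz : IsIntegral (Localization.AtPrime p) z := IsIntegral.of_finite _ z
  obtain ⟨m, hm⟩ := IsIntegral.exists_multiple_integral_of_isLocalization p.primeCompl z hz
  refine ⟨m, m.2, ?_⟩
  obtain ⟨Q, hQ, hQ0⟩ := hm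
  refine ⟨Q, hQ, ?_⟩
  have h1 : m • z = (Algebra.TensorProduct.includeRight (R := R) (A := p.ResidueField) (B := S))
      ((m : R) • x) := by
    show (m : R) • ((1 : p.ResidueField) ⊗ₜ[R] x) = (1 : p.ResidueField) ⊗ₜ[R] ((m : R) • x)
    rw [TensorProduct.tmul_smul]
  rw [h1, ← Polynomial.aeval_def, Polynomial.aeval_algHom_apply] at hQ0
  exact hQ0

end Groth.Agent.H5QFMin
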