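import Mathlib
import Groth.Agent.Lib.Helper5.QFMin.A
import Groth.Agent.Lib.Helper5.QFMin.B

universe u

namespace Groth.Agent.H5QFMin

open TensorProduct Polynomial

variable {R S : Type u} [CommRing R] [CommRing S] [Algebra R S]

theorem isIntegralElem_awayMap [Algebra.FiniteType R S] (p : Ideal R) [p.IsPrime]
    (hp : p ∈ minimalPrimes R) (hfin : (p.primesOver S).Finite) (x : S) :
    ∃ c : R, c ∉ p ∧ ∀ g : R, c ∣ g →
      (Localization.awayMap (algebraMap R S) g).IsIntegralElem
        (algebraMap S (Localization.Away (algebraMap R S g)) x) := by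
  obtain ⟨s, hs, Q, hQ, hQ0⟩ := exists_monic_tmul_eq_zero p hfin x
  obtain ⟨u, hu, N, hN⟩ := exists_smul_pow_eq_zero p hp _ hQ0
  refine ⟨s * u, fun h => ?_, ?_⟩
  · rcases Ideal.IsPrime.mem_or_mem ‹_› h with h | h
    · exact hs h
    · exact hu h
  intro g hg
  set A := Localization.Away g
  set B := Localization.Away (algebraMap R S g)
  set φ : A →+* B := Localization.awayMap (algebraMap R S) g with hφdef
  set ψ : S →+* B := algebraMap S B with hψ
  set ι : R →+* A := algebraMap R A with hι
  have hcomm : φ.comp ι = ψ.comp (algebraMap R S) := by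
    rw [hφdef, Localization.awayMap, IsLocalization.Away.map]
    exact IsLocalization.map_comp _
  have hgunit : IsUnit (ι g) := IsLocalization.Away.algebraMap_isUnit g
  have hsunit : IsUnit (ι s) := by
    obtain ⟨d, rfl⟩ := hg
    rw [map_mul, map_mul] at hgunit
    exact isUnit_of_mul_isUnit_left (isUnit_of_mul_isUnit_left hgunit)
  have huunit : IsUnit (ι u) := by
    obtain ⟨d, rfl⟩ := hg
    rw [map_mul, map_mul] at hgunit
    exact isUnit_of_mul_isUnit_right (isUnit_of_mul_isUnit_left hgunit)
  have hcomm' : ∀ r : R, φ (ι r) = ψ (algebraMap R S r) := fun r => by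
    have := congrArg (fun h => h r) hcomm
    simpa using this
  -- ψ (s • x) is integral
  have h1 : φ.IsIntegralElem (ψ (s • x)) := by
    refine ⟨(Q.map ι) ^ N, (hQ.map ι).pow N, ?_⟩
    rw [Polynomial.eval₂_pow, Polynomial.eval₂_map, hcomm]
    have h2 : ψ (u • (aeval (s • x) Q) ^ N) = 0 := by rw [hN, map_zero]
    rw [Algebra.smul_def, map_mul, map_pow] at h2
    have h3 : IsUnit (ψ (algebraMap R S u)) := by
      rw [← hcomm']; exact huunit.map φ
    have h4 := (h3.mul_right_eq_zero).1 h2
    rw [← h4]
    congr 1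
    rw [Polynomial.aeval_def, Polynomial.hom_eval₂]
  obtain ⟨a, ha⟩ := hsunit.exists_right_inv
  have h5 : ψ (s • x) = ψ x * φ (ι s) := by
    rw [Algebra.smul_def, map_mul, hcomm', mul_comm]
  rw [h5] at h1
  have h6 : φ a * φ (ι s) = 1 := by rw [← map_mul, mul_comm, ha, map_one]
  exact RingHom.IsIntegralElem.of_mul_unit φ (ψ x) (φ (ι s)) a h6 h1

theorem main (R S : Type u) [CommRing R] [CommRing S]
    [Algebra R S] [Algebra.FiniteType R S] (p : Ideal R) (hp : p ∈ minimalPrimes R)
    (hfin : (p.primesOver S).Finite) :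
    ∃ g : R, g ∉ p ∧ (Localization.awayMap (algebraMap R S) g).Finite := by
  classical
  haveI : p.IsPrime := hp.1.1
  obtain ⟨t, ht⟩ := (inferInstance : Algebra.FiniteType R S).out
  choose c hc hcg using fun x : S => isIntegralElem_awayMap p hp hfin x
  refine ⟨∏ x ∈ t, c x, ?_, ?_⟩
  · intro hmem
    rw [Ideal.IsPrime.prod_mem_iff] at hmem
    obtain ⟨x, _, hx⟩ := hmem
    exact hc x hx
  set g := ∏ x ∈ t, c x with hg
  set A := Localization.Away g
  set B := Localization.Away (algebraMap R S g)
  set φ : A →+* B := Localization.awayMap (algebraMap R S) g with hφdef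
  set ψ : S →+* B := algebraMap S B with hψ
  set ι : R →+* A := algebraMap R A with hι
  have hcomm : φ.comp ι = ψ.comp (algebraMap R S) := by
    rw [hφdef, Localization.awayMap, IsLocalization.Away.map]
    exact IsLocalization.map_comp _
  have hcomm' : ∀ r : R, φ (ι r) = ψ (algebraMap R S r) := fun r => by
    have := congrArg (fun h => h r) hcomm
    simpa using this
  have hft : φ.FiniteType := by
    have h0 : (algebraMap R S).FiniteType := RingHom.finiteType_algebraMap.2 inferInstance
    exact RingHom.localization_away_map_finiteType R S A B (algebraMap R S) g h0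
  refine RingHom.IsIntegral.to_finite ?_ hft
  have hS : ∀ y : S, φ.IsIntegralElem (ψ y) := by
    intro y
    have hy : y ∈ Algebra.adjoin R (t : Set S) := by rw [ht]; trivial
    induction hy using Algebra.adjoin_induction with
    | mem x hx => exact hcg x g (Finset.dvd_prod_of_mem c hx)
    | algebraMap r => rw [← hcomm']; exact RingHom.isIntegralElem_map φ
    | add x y _ _ hx hy => rw [map_add]; exact RingHom.IsIntegralElem.add φ hx hy
    | mul x y _ _ hx hy => rw [map_mul]; exact RingHom.IsIntegralElem.mul φ hx hy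
  intro b
  obtain ⟨y, ⟨_, k, rfl⟩, rfl⟩ := IsLocalization.exists_mk'_eq (Submonoid.powers (algebraMap R S g)) b
  have hgunit : IsUnit (ι g) := IsLocalization.Away.algebraMap_isUnit g
  obtain ⟨a, ha⟩ := (hgunit.pow k).exists_right_inv
  have h1 : IsLocalization.mk' B y (⟨(algebraMap R S g) ^ k, k, rfl⟩ : Submonoid.powers (algebraMap R S g))
      = ψ y * φ a := by
    rw [IsLocalization.mk'_eq_iff_eq_mul, mul_assoc]
    have : φ a * ψ ((algebraMap R S g) ^ k) = 1 := by
      rw [map_pow, ← hcomm', ← map_pow, ← map_mul, mul_comm, ha, map_one]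
    rw [this, mul_one]
  rw [h1]
  exact RingHom.IsIntegralElem.mul φ (hS y) (RingHom.isIntegralElem_map φ)

end Groth.Agent.H5QFMin
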